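import Groth.Agent.DimFormula.Fibre
import Groth.Agent.FibDim.AffineSpaceFibre
import Mathlib.AlgebraicGeometry.ZariskisMainTheorem

/-!
# A proper birational morphism with trivial direct image is an isomorphism in codimension one
-/

set_option autoImplicit false
set_option backward.isDefEq.respectTransparency false
set_option backward.isDefEq.respectTransparency.types false

universe u

open CategoryTheory AlgebraicGeometry TopologicalSpace Topology

namespace Groth.Agent.BiratCodim

variable {X Y : Scheme.{u}}

/-- The fibre over a point of codimension at most one is finite. -/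
theorem finite_fibre (f : X ⟶ Y) [LocallyOfFiniteType f] [QuasiCompact f] [IsLocallyNoetherian Y]
    [IsIntegral X] (U : Y.Opens) [IsIso (f ∣_ U)] (hU : ((f ⁻¹ᵁ U : X.Opens) : Set X).Nonempty)
    (y : Y) (hy : DimFormula.codim y ≤ 1) : (f ⁻¹' {y}).Finite := by
  haveI : IsLocallyNoetherian X := LocallyOfFiniteType.isLocallyNoetherian f
  let η := genericPoint X
  have hη : η ∈ f ⁻¹ᵁ U := ((genericPoint_spec X).mem_open_set_iff (f ⁻¹ᵁ U).isOpen).2 (by simpa using hU)
  have hrd : FibDim.rd f η = 0 := by
    haveI : IsOpenImmersion ((f ⁻¹ᵁ U).ι ≫ f) := by rw [← morphismRestrict_ι]; infer_instance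
    have h1 := FibDim.rd_eq_zero_of_quasiFinite ((f ⁻¹ᵁ U).ι ≫ f) ⟨η, hη⟩
    rw [FibDim.rd_opens] at h1
    exact h1
  have hzero : ∀ x : X, f x = y → FibDim.rd f x = 0 := fun x hx => by
    have hs : η ⤳ x := genericPoint_specializes x
    have h1 := (DimFormula.cd_formula f hs).1
    have h2 := DimFormula.cd_le_codim (hs.map f.continuous)
    rw [hx] at h1 h2
    by_contra hne
    have h3 : η = x := (DimFormula.cd_eq_zero_iff hs).1 (by omega)
    exact hne (h3 ▸ hrd)
  have hclosed : ∀ a b : X, f a = y → f b = y → a ⤳ b → a = b := fun a b ha hb hab => by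
    have h1 := DimFormula.cd_add_rd_of_fibre f hab (ha.trans hb.symm)
    rw [hzero a ha, hzero b hb, add_zero] at h1
    exact (DimFormula.cd_eq_zero_iff hab).1 h1
  haveI := DimFormula.isLocallyNoetherian_fiber f y
  haveI : CompactSpace ↥(f.fiber y) := QuasiCompact.compactSpace_of_compactSpace (f.fiberToSpecResidueField y)
  haveI : IsNoetherian (f.fiber y) := { }
  have hfin := NoetherianSpace.finite_irreducibleComponents (α := ↥(f.fiber y))
  have hcomp : ∀ z : ↥(f.fiber y), closure {z} ∈ irreducibleComponents ↥(f.fiber y) := fun z => by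
    refine ⟨isIrreducible_singleton.closure, fun s hs hle => ?_⟩
    obtain ⟨w, hw⟩ := QuasiSober.sober (hs.closure) isClosed_closure
    have hwz : w ⤳ z := hw.specializes (subset_closure (hle (subset_closure rfl)))
    have he : w = z := (f.fiberι y).isEmbedding.injective
      (hclosed _ _ (FibDim.fiber_apply_fiberι f w) (FibDim.fiber_apply_fiberι f z) (hwz.map (f.fiberι y).continuous))
    calc s ⊆ closure s := subset_closure
      _ = closure {w} := hw.symm
      _ = closure {z} := by rw [he]
  haveI := hfin.to_subtype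
  haveI : Finite ↥(f.fiber y) := Finite.of_injective
    (fun z => (⟨closure {z}, hcomp z⟩ : irreducibleComponents ↥(f.fiber y))) (by
      intro a b hab
      exact (inseparable_iff_closure_eq.2 (congrArg Subtype.val hab)).eq)
  exact (f.fiberHomeo y).finite_iff.1 this

/-- A finite morphism with bijective direct image of functions is an isomorphism. -/
theorem isIso_restrict_of_finite (f : X ⟶ Y) (hO : ∀ U : Y.Opens, Function.Bijective (f.app U))
    (V : Y.Opens) [IsFinite (f ∣_ V)] : IsIso (f ∣_ V) := by
  refine (IsZariskiLocalAtTarget.iff_of_iSup_eq_top (P := MorphismProperty.isomorphisms Scheme)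
    (fun U : (V : Scheme.{u}).affineOpens => (U : (V : Scheme.{u}).Opens))
    (iSup_affineOpens_eq_top _)).2 fun U => ?_
  show IsIso ((f ∣_ V) ∣_ (U : (V : Scheme.{u}).Opens))
  haveI : IsAffine ((U : (V : Scheme.{u}).Opens) : Scheme.{u}) := U.2
  haveI : IsAffine (((f ∣_ V) ⁻¹ᵁ (U : (V : Scheme.{u}).Opens) : (f ⁻¹ᵁ V : Scheme.{u}).Opens) : Scheme.{u}) :=
    U.2.preimage (f ∣_ V)
  suffices IsIso (((f ∣_ V) ∣_ (U : (V : Scheme.{u}).Opens)).appTop) from
    ((MorphismProperty.isomorphisms Scheme).arrow_mk_iso_iff (arrowIsoSpecΓOfIsAffine _)).2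
      (show IsIso (Spec.map _) by infer_instance)
  rw [ConcreteCategory.isIso_iff_bijective]
  have key : ∀ W : (V : Scheme.{u}).Opens, IsIso ((f ∣_ V).app W) := fun W => by
    haveI : IsIso (f.app (V.ι ''ᵁ W)) := (ConcreteCategory.isIso_iff_bijective _).2 (hO _)
    rw [morphismRestrict_app]
    infer_instance
  have h2 : IsIso (((f ∣_ V) ∣_ (U : (V : Scheme.{u}).Opens)).appTop) := by
    haveI := key ((U : (V : Scheme.{u}).Opens).ι ''ᵁ ⊤)
    rw [Scheme.Hom.appTop, morphismRestrict_app]
    infer_instance
  exact (ConcreteCategory.isIso_iff_bijective _).1 h2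

end Groth.Agent.BiratCodim
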